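import Cfsg.Agent.Lib.LinearSylowTwo.Main
import Cfsg.Agent.Lib.SympBlocks

/-!
# Sylow `2`-subgroups of `SLₙ` and `Sp₂ₙ` in odd characteristic
-/

namespace CfsgLib.LinearSylowTwo

open CfsgLib.SymSylowGen CfsgLib.OmegaSylowTwo
open scoped Matrix

set_option autoImplicit false
set_option linter.style.haveILetI false
set_option linter.unusedSectionVars false

variable {F : Type*} [Field F] [Fintype F] [DecidableEq F] {k r : ℕ}

theorem two_part_subgroup {G : Type*} [Group G] [Finite G] {H : Subgroup G} (hH : IsPGroup 2 H)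
    (h : 2 ^ (Nat.card G).factorization 2 ≤ Nat.card H) :
    Nat.card H = 2 ^ (Nat.card G).factorization 2 := by
  haveI : Fact (Nat.Prime 2) := ⟨Nat.prime_two⟩
  obtain ⟨n, hn⟩ := IsPGroup.iff_card.1 hH
  have h1 := (Nat.factorization_le_iff_dvd Nat.card_pos.ne' Nat.card_pos.ne').2
    (Subgroup.card_subgroup_dvd_card H) 2
  rw [hn, Nat.factorization_pow, Finsupp.smul_apply, Nat.Prime.factorization_self Nat.prime_two,
    smul_eq_mul, mul_one] at h1
  exact le_antisymm (hn ▸ Nat.pow_le_pow_right (by norm_num) h1) h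

theorem v2_odd_pow_sub_one (h2 : (2 : F) ≠ 0) (i : ℕ) :
    (Fintype.card F ^ (2 * i + 1) - 1).factorization 2 = (Fintype.card F - 1).factorization 2 := by
  have hq := card_odd_iff h2
  have hq1 : 1 < Fintype.card F := Fintype.one_lt_card
  set q := Fintype.card F
  have hpar : ∀ n, (∑ i ∈ Finset.range n, q ^ i) % 2 = n % 2 := fun n => by
    induction n with
    | zero => rfl
    | succ n ih => rw [Finset.sum_range_succ, Nat.add_mod, ih, Nat.pow_mod, hq, one_pow]; omega
  have hne : (∑ j ∈ Finset.range (2 * i + 1), q ^ j) % 2 = 1 := by rw [hpar]; omega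
  rw [← geom_sum_mul_of_one_le hq1.le (2 * i + 1), Nat.factorization_mul (by omega) (by omega),
    Finsupp.add_apply, Nat.factorization_eq_zero_of_not_dvd (n := ∑ j ∈ Finset.range (2 * i + 1), q ^ j)
      (by omega), zero_add]

theorem v2_GL_step (h2 : (2 : F) ≠ 0) (n : ℕ) :
    (Nat.card (GL (Fin (n + 1)) F)).factorization 2 =
      (Nat.card (GL (Fin n) F)).factorization 2 + (Fintype.card F ^ (n + 1) - 1).factorization 2 := by
  have hq := card_odd_iff h2
  have hq1 : 1 < Fintype.card F := Fintype.one_lt_card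
  have hp : 1 < Fintype.card F ^ (n + 1) := Nat.one_lt_pow (by omega) hq1
  have h : Nat.card (GL (Fin (n + 1)) F) =
      Fintype.card F ^ n * Nat.card (GL (Fin n) F) * (Fintype.card F ^ (n + 1) - 1) := by
    rw [Matrix.card_GL_field, Matrix.card_GL_field, Fin.prod_univ_succ]
    simp only [Fin.val_zero, pow_zero, Fin.val_succ]
    rw [Finset.prod_congr rfl (fun (i : Fin n) _ =>
      show Fintype.card F ^ (n + 1) - Fintype.card F ^ ((i : ℕ) + 1) =
        Fintype.card F * (Fintype.card F ^ n - Fintype.card F ^ (i : ℕ)) by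
        rw [Nat.mul_sub, pow_succ', pow_succ']), Finset.prod_mul_distrib, Finset.prod_const, Finset.card_univ,
      Fintype.card_fin]
    ring
  rw [h, Nat.factorization_mul (Nat.mul_ne_zero (pow_ne_zero _ (by omega)) Nat.card_pos.ne') (by omega),
    Nat.factorization_mul (pow_ne_zero _ (by omega)) Nat.card_pos.ne', Finsupp.add_apply, Finsupp.add_apply,
    Nat.factorization_eq_zero_of_not_dvd (n := Fintype.card F ^ n) (fun h => by
      have := Nat.Prime.dvd_of_dvd_pow Nat.prime_two h
      omega), zero_add]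

theorem v2_GL_even (h2 : (2 : F) ≠ 0) (k : ℕ) :
    (Nat.card (GL (Fin (2 * k)) F)).factorization 2 =
      k * ((Fintype.card F - 1).factorization 2 + ((Nat.card (Circ F)).factorization 2 + 1)) +
        k.factorial.factorization 2 := by
  induction k with
  | zero =>
    rw [Matrix.card_GL_field, Finset.prod_eq_one fun i _ => i.elim0]
    simp
  | succ k ih =>
    rw [show 2 * (k + 1) = 2 * k + 1 + 1 by ring, v2_GL_step h2, v2_GL_step h2, ih, v2_odd_pow_sub_one h2,
      show 2 * k + 1 + 1 = 2 * (k + 1) by ring, v2_sq_pow_sub_one h2 _ (Nat.succ_ne_zero k),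
      Nat.factorial_succ, Nat.factorization_mul (Nat.succ_ne_zero k) k.factorial_ne_zero, Finsupp.add_apply]
    ring

/-- Re-indexing of the general linear group. -/
noncomputable def glReindex {ι κ : Type*} [Fintype ι] [DecidableEq ι] [Fintype κ] [DecidableEq κ]
    (e : ι ≃ κ) : GL ι F ≃* GL κ F :=
  Units.mapEquiv (Matrix.reindexAlgEquiv F F e).toMulEquiv

theorem glReindex_val {ι κ : Type*} [Fintype ι] [DecidableEq ι] [Fintype κ] [DecidableEq κ]
    (e : ι ≃ κ) (g : GL ι F) : (glReindex e g).1 = g.1.submatrix e.symm e.symm := rfl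

theorem v2_GL_Ix (h2 : (2 : F) ≠ 0) (hr : r ≤ 1) :
    (Nat.card (GL (Ix k r) F)).factorization 2 =
      k * ((Fintype.card F - 1).factorization 2 + ((Nat.card (Circ F)).factorization 2 + 1)) +
        k.factorial.factorization 2 + r * (Fintype.card F - 1).factorization 2 := by
  rw [Nat.card_congr (glReindex (F := F) (Fintype.equivOfCardEq
    (show Fintype.card (Ix k r) = Fintype.card (Fin (2 * k + r)) by simp))).toEquiv]
  interval_cases r
  · rw [zero_mul, add_zero, add_zero, v2_GL_even h2]
  · rw [one_mul, v2_GL_step h2, v2_GL_even h2, v2_odd_pow_sub_one h2]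

theorem transitive_of_sylow {n : ℕ} (j : ℕ) (hn : n = 2 ^ j) (T : Subgroup (Equiv.Perm (Fin n)))
    (hTp : IsPGroup 2 T) (hTc : Nat.card T = 2 ^ n.factorial.factorization 2) (a b : Fin n) :
    ∃ w ∈ T, w a = b := by
  classical
  haveI : Fact (Nat.Prime 2) := ⟨Nat.prime_two⟩
  have h1 := MulAction.card_orbit_mul_card_stabilizer_eq_card_group T a
  simp only [← Nat.card_eq_fintype_card] at h1
  have hS : Nat.card (MulAction.stabilizer T a) ∣ (n - 1).factorial := by
    have h2 := MulAction.card_orbit_mul_card_stabilizer_eq_card_group (Equiv.Perm (Fin n)) a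
    have horb : MulAction.orbit (Equiv.Perm (Fin n)) a = Set.univ :=
      Set.eq_univ_of_forall fun x => ⟨Equiv.swap a x, Equiv.swap_apply_left a x⟩
    simp only [← Nat.card_eq_fintype_card] at h2
    rw [horb, Nat.card_univ, Nat.card_fin, Nat.card_perm, Nat.card_fin, ← Nat.mul_factorial_pred
      (by have := a.2; omega)] at h2
    rw [← Nat.eq_of_mul_eq_mul_left (show 0 < n by have := a.2; omega) h2,
      ← Subgroup.card_map_of_injective T.subtype_injective]
    exact Subgroup.card_dvd_of_le (by rintro _ ⟨x, hx, rfl⟩; exact hx)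
  obtain ⟨s, hs⟩ := IsPGroup.iff_card.1 (hTp.to_subgroup (MulAction.stabilizer T a))
  have hsle : s ≤ (n - 1).factorial.factorization 2 := by
    rw [hs] at hS
    exact (Nat.Prime.pow_dvd_iff_le_factorization Nat.prime_two (Nat.factorial_ne_zero _)).1 hS
  have hv : n.factorial.factorization 2 = j + (n - 1).factorial.factorization 2 := by
    have h3 : n ≠ 0 := by have := a.2; omega
    rw [← Nat.mul_factorial_pred h3, Nat.factorization_mul h3 (Nat.factorial_ne_zero _), Finsupp.add_apply]
    congr 1
    rw [hn, Nat.factorization_pow, Finsupp.smul_apply, Nat.Prime.factorization_self Nat.prime_two,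
      smul_eq_mul, mul_one]
  have horb : n ≤ Nat.card (MulAction.orbit T a) := by
    rw [hTc, hs, hv] at h1
    have h4 : 2 ^ j * 2 ^ s ≤ Nat.card (MulAction.orbit T a) * 2 ^ s := by
      rw [h1, ← pow_add]
      exact Nat.pow_le_pow_right (by norm_num) (by omega)
    refine hn.le.trans ?_
    exact Nat.le_of_mul_le_mul_right h4 (by positivity)
  have : MulAction.orbit T a = Set.univ := by
    refine Set.eq_of_subset_of_ncard_le (Set.subset_univ _) ?_ (Set.toFinite _)
    rwa [Set.ncard_univ, Nat.card_fin, ← Nat.card_coe_set_eq]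
  obtain ⟨w, hw⟩ : b ∈ MulAction.orbit T a := this ▸ Set.mem_univ b
  exact ⟨w.1, w.2, hw⟩

/-- The Sylow `2`-subgroups of the determinant one matrices. -/
theorem sqIn_SL {n : ℕ} (h2 : (2 : F) ≠ 0) (k r : ℕ) (hn : n = 2 * k + r) (hk : 0 < k) (hr : r ≤ 1)
    (hcase : (Fintype.card F - 1).factorization 2 = 1 ∨ (r = 0 ∧ ∃ j, k = 2 ^ j))
    (P : Sylow 2 (Matrix.SpecialLinearGroup (Fin n) F)) :
    ∀ x : (P : Subgroup (Matrix.SpecialLinearGroup (Fin n) F)),
      x ^ 2 ∈ commutator (P : Subgroup (Matrix.SpecialLinearGroup (Fin n) F)) := by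
  classical
  haveI : Fact (Nat.Prime 2) := ⟨Nat.prime_two⟩
  obtain ⟨c, M, t, hc, hMp, hMc, htM, htc, hMd, hQ, hct⟩ := exists_sylow (F := F) h2
  obtain ⟨T, hTp, hTc, hTg, -⟩ := exists_generated 2 k
  rw [← Nat.factorization_def _ Nat.prime_two] at hTc
  set P₀ := mono (r := r) M (Subgroup.zpowers c) T with hP₀
  have hSc : Nat.card (Subgroup.zpowers c) = 2 ^ (Fintype.card F - 1).factorization 2 := by rw [Nat.card_zpowers, hc]
  have hP₀p : IsPGroup 2 P₀ := isPGroup_mono M _ T hMp (IsPGroup.of_card hSc) hTp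
  have hcard := two_part_subgroup hP₀p (by
    refine le_trans (le_of_eq ?_) (card_mono M (Subgroup.zpowers c) T)
    rw [v2_GL_Ix h2 hr, hMc, hSc, hTc, ← pow_mul, ← pow_mul, ← pow_add, ← pow_add]
    ring_nf)
  let S₀ : Sylow 2 (GL (Ix k r) F) := Sylow.ofCard P₀ hcard
  set N := (Matrix.GeneralLinearGroup.det : GL (Ix k r) F →* Fˣ).ker with hN
  have hsq : SqIn (P₀ ⊓ N) := by
    refine sqIn_det_one hk M t c htM htc hMd hQ T hTg ?_
    rcases hcase with h | ⟨hr0, j, hj⟩
    · have hc2 : c ^ 2 = 1 := by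
        have := pow_orderOf_eq_one c
        rwa [hc, h, pow_one] at this
      exact Or.inl ⟨hc2, hct hc2⟩
    · exact Or.inr ⟨hr0, transitive_of_sylow j hj T hTp hTc⟩
  have hsub : SqIn ((P₀ ⊓ N).subgroupOf N) := by
    refine SqIn.of_map N.subtype_injective ?_
    rw [Subgroup.subgroupOf_map_subtype, inf_assoc, inf_idem]
    exact hsq
  have hsubc : Nat.card ((P₀ ⊓ N).subgroupOf N) = 2 ^ (Nat.card N).factorization 2 := by
    rw [← Subgroup.card_map_of_injective N.subtype_injective, Subgroup.subgroupOf_map_subtype, inf_assoc,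
      inf_idem]
    exact card_inf_normal N S₀
  -- the special linear group
  let e : Fin n ≃ Ix k r := Fintype.equivOfCardEq (by simp [hn])
  have hmem : ∀ g : Matrix.SpecialLinearGroup (Fin n) F,
      glReindex e (Matrix.SpecialLinearGroup.toGL g) ∈ N := fun g => by
    refine MonoidHom.mem_ker.2 (Units.ext ?_)
    show (glReindex e (Matrix.SpecialLinearGroup.toGL g)).1.det = 1
    rw [glReindex_val, Matrix.det_submatrix_equiv_self]
    exact g.2
  let ψ : Matrix.SpecialLinearGroup (Fin n) F →* N :=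
    ((glReindex e).toMonoidHom.comp Matrix.SpecialLinearGroup.toGL).codRestrict N hmem
  have hinj : Function.Injective ψ := fun a b h => CfsgLib.SLCard.toGL_injective
    ((glReindex e).injective (congrArg Subtype.val h))
  have hsurj : Function.Surjective ψ := fun y => by
    have hy : ((glReindex e).symm y.1) ∈
        (Matrix.GeneralLinearGroup.det : GL (Fin n) F →* Fˣ).ker := by
      refine MonoidHom.mem_ker.2 (Units.ext ?_)
      have h1 : (y.1).1.det = 1 := congrArg Units.val (MonoidHom.mem_ker.1 y.2)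
      have h2 : (glReindex e ((glReindex e).symm y.1)).1.det = ((glReindex e).symm y.1).1.det := by
        rw [glReindex_val, Matrix.det_submatrix_equiv_self]
      rw [MulEquiv.apply_symm_apply, h1] at h2
      exact h2.symm
    rw [← CfsgLib.SLCard.range_toGL] at hy
    obtain ⟨g, hg⟩ := hy
    exact ⟨g, Subtype.ext (by show glReindex e _ = _; rw [hg, MulEquiv.apply_symm_apply])⟩
  have h := sqIn_sylow hsub hsubc (P.mapSurjective hsurj)
  rw [Sylow.coe_mapSurjective] at h
  exact (h.of_map hinj).sq_mem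

theorem v2_Sp (h2 : (2 : F) ≠ 0) (n : ℕ) :
    (Nat.card (Matrix.symplecticGroup (Fin n) F)).factorization 2 =
      n * ((Nat.card (Circ F)).factorization 2 + 1) + n.factorial.factorization 2 := by
  induction n with
  | zero =>
    have : Nat.card (Matrix.symplecticGroup (Fin 0) F) = 1 :=
      Nat.card_eq_one_iff_unique.2 ⟨⟨fun a b => Subtype.ext (Subsingleton.elim _ _)⟩, ⟨1⟩⟩
    simp [this]
  | succ n ih =>
    have hq := card_odd_iff h2
    have hq1 : 1 < Fintype.card F := Fintype.one_lt_card
    have := Nat.one_lt_pow (n := 2 * (n + 1)) (by omega) hq1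
    rw [CfsgLib.SympBlocks.card_step, Nat.factorization_mul
      (Nat.mul_ne_zero (by omega) (pow_ne_zero _ (by omega))) Nat.card_pos.ne',
      Nat.factorization_mul (by omega) (pow_ne_zero _ (by omega)), Finsupp.add_apply, Finsupp.add_apply, ih,
      v2_sq_pow_sub_one h2 _ (Nat.succ_ne_zero n),
      Nat.factorization_eq_zero_of_not_dvd (n := Fintype.card F ^ (2 * n + 1)) (fun h => by
        have := Nat.Prime.dvd_of_dvd_pow Nat.prime_two h
        omega),
      Nat.factorial_succ, Nat.factorization_mul (Nat.succ_ne_zero n) n.factorial_ne_zero, Finsupp.add_apply]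
    ring

/-- The pairs of coordinates of a symplectic basis. -/
def sympIx (n : ℕ) : Fin n ⊕ Fin n ≃ Ix n 0 where
  toFun := Sum.elim (fun i => Sum.inl (0, i)) (fun i => Sum.inl (1, i))
  invFun := Sum.elim (fun x => if x.1 = 0 then Sum.inl x.2 else Sum.inr x.2) (fun j => j.elim0)
  left_inv := by rintro (i | i) <;> rfl
  right_inv := by
    rintro (⟨a, i⟩ | j)
    · fin_cases a <;> rfl
    · exact j.elim0

/-- The Sylow `2`-subgroups of the symplectic groups. -/
theorem sqIn_Sp (h2 : (2 : F) ≠ 0) (n : ℕ) (P : Sylow 2 (Matrix.symplecticGroup (Fin n) F)) :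
    ∀ x : (P : Subgroup (Matrix.symplecticGroup (Fin n) F)),
      x ^ 2 ∈ commutator (P : Subgroup (Matrix.symplecticGroup (Fin n) F)) := by
  classical
  haveI : Fact (Nat.Prime 2) := ⟨Nat.prime_two⟩
  obtain ⟨Q, hQk, hQs, hQc⟩ := exists_sqIn_ker (F := F) h2
  obtain ⟨T, hTp, hTc, hTg, -⟩ := exists_generated 2 n
  rw [← Nat.factorization_def _ Nat.prime_two] at hTc
  set P₁ := mono (r := 0) Q ⊥ T with hP₁
  let ψ : Matrix.symplecticGroup (Fin n) F →* GL (Ix n 0) F :=
    (glReindex (sympIx n)).toMonoidHom.comp (MonoidHom.toHomUnits (Matrix.symplecticGroup (Fin n) F).subtype)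
  have hinj : Function.Injective ψ := fun a b h => Subtype.ext
    (congrArg Units.val ((glReindex (sympIx n)).injective h))
  have hrange : P₁ ≤ ψ.range := by
    have key : ∀ g : GL (Ix n 0) F, g.1.submatrix (sympIx n) (sympIx n) ∈ Matrix.symplecticGroup (Fin n) F →
        g ∈ ψ.range := fun g hg => ⟨⟨_, hg⟩, Units.ext (by
          show (g.1.submatrix (sympIx n) (sympIx n)).submatrix (sympIx n).symm (sympIx n).symm = g.1
          simp)⟩
    refine sup_le ?_ ?_
    · rintro _ ⟨x, hx, rfl⟩
      rw [SetLike.mem_coe, mem_datSub] at hx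
      refine key _ ?_
      have hA : (Bl x).1.submatrix (sympIx n) (sympIx n) = Matrix.fromBlocks
          (Matrix.diagonal fun i => (x.1 i).1 0 0) (Matrix.diagonal fun i => (x.1 i).1 0 1)
          (Matrix.diagonal fun i => (x.1 i).1 1 0) (Matrix.diagonal fun i => (x.1 i).1 1 1) := by
        ext a b
        rcases a with i | i <;> rcases b with j | j <;>
          simp [Bl_val, sympIx, Matrix.blockDiagonal_apply, Matrix.diagonal_apply]
      rw [hA, SymplecticGroup.mem_iff, Matrix.J, Matrix.fromBlocks_transpose, Matrix.fromBlocks_multiply,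
        Matrix.fromBlocks_multiply]
      have hd : ∀ i, (x.1 i).1 0 0 * (x.1 i).1 1 1 - (x.1 i).1 0 1 * (x.1 i).1 1 0 = 1 := fun i => by
        have := congrArg Units.val (MonoidHom.mem_ker.1 (hQk (hx.1 i)))
        rw [← Matrix.det_fin_two]
        exact this
      simp only [Matrix.diagonal_transpose, Matrix.mul_zero, Matrix.zero_mul, Matrix.mul_neg, Matrix.neg_mul,
        Matrix.mul_one, zero_add, add_zero, Matrix.diagonal_mul_diagonal, Matrix.diagonal_neg,
        Matrix.diagonal_add]
      congr 1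
      · rw [← Matrix.diagonal_zero]
        exact congrArg _ (funext fun i => by (try simp only [Pi.neg_apply]); ring)
      · rw [← Matrix.diagonal_one, Matrix.diagonal_neg]
        exact congrArg _ (funext fun i => by (try simp only [Pi.neg_apply]); linear_combination -(hd i))
      · rw [← Matrix.diagonal_one]
        exact congrArg _ (funext fun i => by (try simp only [Pi.neg_apply]); linear_combination hd i)
      · rw [← Matrix.diagonal_zero]
        exact congrArg _ (funext fun i => by (try simp only [Pi.neg_apply]); ring)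
    · rintro _ ⟨w, -, rfl⟩
      refine key _ ?_
      have hA : (Prm (F := F) (r := 0) w).1.submatrix (sympIx n) (sympIx n) = Matrix.fromBlocks
          ((w⁻¹).permMatrix F) 0 0 ((w⁻¹).permMatrix F) := by
        ext a b
        rcases a with i | i <;> rcases b with j | j <;>
          simp [Prm_val, sympIx, ePerm, Equiv.toPEquiv_apply, PEquiv.toMatrix_apply, Equiv.Perm.inv_def]
      rw [hA, SymplecticGroup.mem_iff, Matrix.J, Matrix.fromBlocks_transpose, Matrix.fromBlocks_multiply,
        Matrix.fromBlocks_multiply]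
      simp [Matrix.transpose_permMatrix, ← Matrix.permMatrix_mul]
  set P₀ := P₁.comap ψ with hP₀
  have hmap : P₀.map ψ = P₁ := Subgroup.map_comap_eq_self hrange
  have hP₁p : IsPGroup 2 P₁ := isPGroup_mono Q ⊥ T (IsPGroup.of_card hQc) IsPGroup.of_bot hTp
  have hc : Nat.card P₀ = Nat.card P₁ := by rw [← hmap, Subgroup.card_map_of_injective hinj]
  obtain ⟨d, hd⟩ := IsPGroup.iff_card.1 hP₁p
  have hcard := two_part_subgroup (IsPGroup.of_card (hc.trans hd)) (by
    rw [hc, v2_Sp h2]
    refine le_trans (le_of_eq ?_) (card_mono Q ⊥ T)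
    rw [hQc, hTc, pow_zero, mul_one, ← pow_mul, ← pow_add]
    ring_nf)
  exact ((sqIn_sylow ((hmap.symm ▸ sqIn_mono Q hQs T hTg : SqIn (P₀.map ψ)).of_map hinj) hcard P)).sq_mem

end CfsgLib.LinearSylowTwo
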