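import Cfsg.Agent.Lib.LinearSylowTwo.Two

/-!
# Monomial groups on blocks of size two and lines
-/

namespace CfsgLib.LinearSylowTwo

open Matrix

set_option autoImplicit false
set_option linter.style.haveILetI false
set_option linter.unusedSectionVars false

variable {F : Type*} [Field F] [Fintype F] [DecidableEq F] {k r : ℕ}

/-- The index type. -/
abbrev Ix (k r : ℕ) : Type := (Fin 2 × Fin k) ⊕ Fin r

/-- The block data. -/
abbrev Dat (F : Type*) [Field F] (k r : ℕ) : Type _ := (Fin k → GL (Fin 2) F) × (Fin r → Fˣ)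

/-- Block diagonal matrices. -/
noncomputable def Bl : Dat F k r →* GL (Ix k r) F :=
  MonoidHom.toHomUnits
    { toFun := fun x => Matrix.fromBlocks (Matrix.blockDiagonal fun i => (x.1 i).1) 0 0
        (Matrix.diagonal fun j => (x.2 j : F))
      map_one' := by
        show Matrix.fromBlocks (Matrix.blockDiagonal (1 : Fin k → Matrix (Fin 2) (Fin 2) F)) 0 0
          (Matrix.diagonal (1 : Fin r → F)) = 1
        rw [Matrix.blockDiagonal_one, ← Matrix.fromBlocks_one]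
        rfl
      map_mul' := fun x y => by
        rw [Matrix.fromBlocks_multiply, ← Matrix.blockDiagonal_mul, Matrix.diagonal_mul_diagonal]
        simp }

theorem Bl_val (x : Dat F k r) : (Bl x).1 = Matrix.fromBlocks (Matrix.blockDiagonal fun i => (x.1 i).1) 0 0
    (Matrix.diagonal fun j => (x.2 j : F)) := rfl

theorem det_Bl (x : Dat F k r) : Matrix.GeneralLinearGroup.det (Bl x) =
    (∏ i, Matrix.GeneralLinearGroup.det (x.1 i)) * ∏ j, x.2 j := by
  apply Units.ext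
  rw [Units.val_mul, Units.coe_prod, Units.coe_prod]
  show (Bl x).1.det = _
  rw [Bl_val, Matrix.det_fromBlocks_zero₂₁, Matrix.det_blockDiagonal, Matrix.det_diagonal]
  rfl

/-- The index permutation of a block permutation. -/
def ePerm : Equiv.Perm (Fin k) →* Equiv.Perm (Ix k r) where
  toFun w := Equiv.sumCongr (Equiv.prodCongr (Equiv.refl (Fin 2)) w) (Equiv.refl (Fin r))
  map_one' := by ext x; rcases x with ⟨a, i⟩ | j <;> rfl
  map_mul' v w := by ext x; rcases x with ⟨a, i⟩ | j <;> rfl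

theorem sign_ePerm (w : Equiv.Perm (Fin k)) : Equiv.Perm.sign (ePerm (r := r) w) = 1 := by
  show Equiv.Perm.sign (Equiv.sumCongr _ _) = 1
  rw [Equiv.Perm.sign_sumCongr,
    show Equiv.prodCongr (Equiv.refl (Fin 2)) w = Equiv.prodCongrRight (fun _ : Fin 2 => w) from
      Equiv.ext fun x => rfl,
    Equiv.Perm.sign_prodCongrRight, Equiv.Perm.sign_refl, mul_one, Finset.prod_const, Finset.card_univ,
    Fintype.card_fin, _root_.sq, Int.units_mul_self]

/-- Block permutations. -/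
noncomputable def Prm : Equiv.Perm (Fin k) →* GL (Ix k r) F :=
  MonoidHom.toHomUnits (Matrix.permMatrixHom.comp (ePerm (r := r)))

theorem Prm_val (w : Equiv.Perm (Fin k)) :
    (Prm (F := F) (r := r) w).1 = (ePerm (r := r) w)⁻¹.permMatrix F := rfl

theorem det_Prm (w : Equiv.Perm (Fin k)) :
    Matrix.GeneralLinearGroup.det (Prm (F := F) (r := r) w) = 1 := by
  apply Units.ext
  show (Prm (F := F) (r := r) w).1.det = 1
  rw [Prm_val, Matrix.det_permutation, Equiv.Perm.sign_inv, sign_ePerm]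
  simp

theorem Prm_Bl (w : Equiv.Perm (Fin k)) (x : Dat F k r) :
    Prm w * Bl x = Bl (x.1 ∘ ⇑w⁻¹, x.2) * Prm w := by
  apply Units.ext
  rw [Units.val_mul, Units.val_mul, Prm_val, PEquiv.toMatrix_toPEquiv_mul, PEquiv.mul_toMatrix_toPEquiv,
    Bl_val, Bl_val]
  ext a b
  rcases a with ⟨a, i⟩ | a <;> rcases b with ⟨b, j⟩ | b <;>
    simp [ePerm, Matrix.blockDiagonal_apply, Equiv.Perm.inv_def, Equiv.symm_apply_eq]

theorem Bl_conj (w : Equiv.Perm (Fin k)) (x : Dat F k r) :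
    Prm w * Bl x * (Prm w)⁻¹ = Bl (x.1 ∘ ⇑w⁻¹, x.2) := by
  rw [Prm_Bl, mul_inv_cancel_right]

theorem Bl_injective : Function.Injective (Bl : Dat F k r →* GL (Ix k r) F) := by
  intro x y e
  have e' := congrArg Units.val e
  rw [Bl_val, Bl_val, Matrix.fromBlocks_inj] at e'
  refine Prod.ext (funext fun i => Units.ext ?_) (funext fun j => Units.ext ?_)
  · exact congrFun (Matrix.blockDiagonal_injective e'.1) i
  · exact congrFun (Matrix.diagonal_injective e'.2.2.2) j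

theorem Bl_mul_Prm_injective :
    Function.Injective fun a : Dat F k r × Equiv.Perm (Fin k) => Bl a.1 * Prm a.2 := by
  rintro ⟨x, w⟩ ⟨y, v⟩ e
  have key : Bl (y⁻¹ * x) = Prm (v * w⁻¹) := by
    rw [map_mul, map_inv, map_mul, map_inv]
    rw [inv_mul_eq_iff_eq_mul, ← mul_assoc, eq_mul_inv_iff_mul_eq]
    exact e
  set u := v * w⁻¹
  obtain ⟨z, hz⟩ : ∃ z, y⁻¹ * x = z := ⟨_, rfl⟩
  rw [hz] at key
  have hu : u = 1 := Equiv.ext fun i => by
    show u i = i
    by_contra hne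
    have h := congrFun (congrFun (congrArg (fun g : GL (Ix k r) F => (g : Matrix (Ix k r) (Ix k r) F)) key) (Sum.inl ((0 : Fin 2), u i))) (Sum.inl (0, i))
    rw [Bl_val, Prm_val, Equiv.Perm.permMatrix, PEquiv.toMatrix_apply] at h
    simp [ePerm, Matrix.blockDiagonal_apply, Equiv.toPEquiv_apply, Equiv.Perm.inv_def, hne] at h
  have hw : v = w := mul_inv_eq_one.1 hu
  subst hw
  exact Prod.ext (Bl_injective (mul_right_cancel e)) rfl

/-- The data with entries in given subgroups. -/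
def datSub (M : Subgroup (GL (Fin 2) F)) (S : Subgroup Fˣ) : Subgroup (Dat F k r) :=
  (Subgroup.pi Set.univ fun _ => M).prod (Subgroup.pi Set.univ fun _ => S)

theorem mem_datSub {M : Subgroup (GL (Fin 2) F)} {S : Subgroup Fˣ} {x : Dat F k r} :
    x ∈ datSub M S ↔ (∀ i, x.1 i ∈ M) ∧ ∀ j, x.2 j ∈ S := by
  simp [datSub, Subgroup.mem_prod, Subgroup.mem_pi]

/-- The monomial group. -/
noncomputable def mono (M : Subgroup (GL (Fin 2) F)) (S : Subgroup Fˣ)
    (T : Subgroup (Equiv.Perm (Fin k))) : Subgroup (GL (Ix k r) F) :=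
  (datSub M S).map Bl ⊔ T.map Prm

variable (M : Subgroup (GL (Fin 2) F)) (S : Subgroup Fˣ) (T : Subgroup (Equiv.Perm (Fin k)))

theorem perm_le_normalizer :
    T.map (Prm (F := F) (r := r)) ≤
      Subgroup.normalizer (((datSub M S).map Bl : Subgroup (GL (Ix k r) F)) : Set (GL (Ix k r) F)) := by
  rintro _ ⟨w, -, rfl⟩
  rw [Subgroup.mem_normalizer_iff]
  intro x
  constructor
  · rintro ⟨y, hy, rfl⟩
    rw [SetLike.mem_coe, mem_datSub] at hy
    exact ⟨(y.1 ∘ ⇑w⁻¹, y.2), mem_datSub.2 ⟨fun i => hy.1 _, hy.2⟩, (Bl_conj w y).symm⟩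
  · rintro ⟨y, hy, e⟩
    rw [SetLike.mem_coe, mem_datSub] at hy
    refine ⟨(y.1 ∘ ⇑w, y.2), mem_datSub.2 ⟨fun i => hy.1 _, hy.2⟩, ?_⟩
    have h := Bl_conj w (y.1 ∘ ⇑w, y.2)
    rw [show (y.1 ∘ ⇑w) ∘ ⇑w⁻¹ = y.1 from funext fun i => by simp, e] at h
    exact mul_left_cancel (mul_right_cancel h)

theorem mem_mono {g : GL (Ix k r) F} (hg : g ∈ mono (r := r) M S T) :
    ∃ x ∈ datSub M S, ∃ w ∈ T, g = Bl x * Prm w := by
  have h : g ∈ ((((datSub M S).map Bl) ⊔ T.map Prm : Subgroup (GL (Ix k r) F)) : Set _) := hg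
  rw [Subgroup.coe_mul_of_right_le_normalizer_left _ _ (perm_le_normalizer M S T)] at h
  obtain ⟨_, ⟨x, hx, rfl⟩, _, ⟨w, hw, rfl⟩, rfl⟩ := h
  exact ⟨x, hx, w, hw, rfl⟩

theorem isPGroup_mono (hM : IsPGroup 2 M) (hS : IsPGroup 2 S) (hT : IsPGroup 2 T) :
    IsPGroup 2 (mono (r := r) M S T) := by
  refine IsPGroup.to_sup_of_normal_left' (IsPGroup.map ?_ _) (hT.map _) (perm_le_normalizer M S T)
  rintro ⟨x, hx⟩
  rw [mem_datSub] at hx
  have h1 : ∀ i, ∃ n : ℕ, x.1 i ^ 2 ^ n = 1 := fun i => by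
    obtain ⟨n, hn⟩ := hM ⟨_, hx.1 i⟩; exact ⟨n, congrArg Subtype.val hn⟩
  have h2 : ∀ j, ∃ n : ℕ, x.2 j ^ 2 ^ n = 1 := fun j => by
    obtain ⟨n, hn⟩ := hS ⟨_, hx.2 j⟩; exact ⟨n, congrArg Subtype.val hn⟩
  choose n hn using h1
  choose m hm using h2
  refine ⟨(∑ i, n i) + ∑ j, m j, Subtype.ext (Prod.ext (funext fun i => ?_) (funext fun j => ?_))⟩
  · show x.1 i ^ 2 ^ _ = 1
    obtain ⟨t, ht⟩ := Nat.pow_dvd_pow 2 (show n i ≤ (∑ i, n i) + ∑ j, m j from
      (Finset.single_le_sum (fun _ _ => Nat.zero_le _) (Finset.mem_univ i)).trans (Nat.le_add_right _ _))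
    rw [ht, pow_mul, hn i, one_pow]
  · show x.2 j ^ 2 ^ _ = 1
    obtain ⟨t, ht⟩ := Nat.pow_dvd_pow 2 (show m j ≤ (∑ i, n i) + ∑ j, m j from
      (Finset.single_le_sum (fun _ _ => Nat.zero_le _) (Finset.mem_univ j)).trans (Nat.le_add_left _ _))
    rw [ht, pow_mul, hm j, one_pow]

theorem card_mono :
    Nat.card M ^ k * Nat.card S ^ r * Nat.card T ≤ Nat.card (mono (r := r) M S T) := by
  have h := Nat.card_le_card_of_injective
    (fun a : ((Fin k → M) × (Fin r → S)) × T =>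
      (⟨Bl (fun i => (a.1.1 i).1, fun j => (a.1.2 j).1) * Prm a.2.1,
        mul_mem (Subgroup.mem_sup_left ⟨_, mem_datSub.2 ⟨fun i => (a.1.1 i).2, fun j => (a.1.2 j).2⟩, rfl⟩)
          (Subgroup.mem_sup_right ⟨_, a.2.2, rfl⟩)⟩ : mono (r := r) M S T))
    (fun x y e => by
      have := Bl_mul_Prm_injective (a₁ := ((fun i => (x.1.1 i).1, fun j => (x.1.2 j).1), x.2.1))
        (a₂ := ((fun i => (y.1.1 i).1, fun j => (y.1.2 j).1), y.2.1)) (congrArg Subtype.val e)
      simp only [Prod.ext_iff] at this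
      exact Prod.ext (Prod.ext (funext fun i => Subtype.ext (congrFun this.1.1 i))
        (funext fun j => Subtype.ext (congrFun this.1.2 j))) (Subtype.ext this.2))
  rwa [Nat.card_prod, Nat.card_prod, Nat.card_fun, Nat.card_fun, Nat.card_fin, Nat.card_fin] at h

end CfsgLib.LinearSylowTwo
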