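import Cfsg.Agent.Lib.LinearSylowTwo.Blocks
import Cfsg.Agent.Lib.SymSylowGen

/-!
# Squares in monomial Sylow `2`-subgroups
-/

namespace CfsgLib.LinearSylowTwo

open CfsgLib.SymSylowGen
open scoped commutatorElement

set_option autoImplicit false
set_option linter.style.haveILetI false
set_option linter.unusedSectionVars false

variable {F : Type*} [Field F] [Fintype F] [DecidableEq F] {k r : ℕ}

local notation "dt" => (Matrix.GeneralLinearGroup.det : GL (Fin 2) F →* Fˣ)

/-- A block element of a subgroup of the block data. -/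
theorem single_commutator (H : Subgroup (GL (Ix k r) F)) (Q : Subgroup (GL (Fin 2) F)) (hQ : SqIn Q) (i : Fin k)
    (h : ∀ q ∈ Q, Bl ((Pi.mulSingle i q, 1) : Dat F k r) ∈ H) (q : GL (Fin 2) F) (hq : q ∈ Q) :
    Bl ((Pi.mulSingle i q, 1) : Dat F k r) ^ 2 ∈ ⁅H, H⁆ := by
  let ι : GL (Fin 2) F →* GL (Ix k r) F :=
    ((Bl (F := F) (k := k) (r := r)).comp (MonoidHom.inl _ _)).comp
      (MonoidHom.mulSingle (fun _ : Fin k => GL (Fin 2) F) i)
  have hle : Q.map ι ≤ H := by rintro _ ⟨x, hx, rfl⟩; exact h x hx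
  exact Subgroup.commutator_mono hle hle (hQ.map ι (ι q) ⟨q, hq, rfl⟩)

/-- The group `Q ≀ T`. -/
theorem sqIn_mono (Q : Subgroup (GL (Fin 2) F)) (hQ : SqIn Q) (T : Subgroup (Equiv.Perm (Fin k)))
    (hT : GenByExp 2 T) : SqIn (mono (r := 0) Q ⊥ T) := by
  set H := mono (r := 0) Q ⊥ T with hH
  set Gs : Set (GL (Ix k 0) F) := {g | ∃ (i : Fin k) (q : _) (_ : q ∈ Q), g = Bl ((Pi.mulSingle i q, 1) : Dat F k 0)}
    ∪ {g | ∃ w ∈ T, w ^ 2 = 1 ∧ g = Prm w} with hGs
  have hcl : H = Subgroup.closure Gs := by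
    refine le_antisymm (sup_le ?_ ?_) ((Subgroup.closure_le _).2 ?_)
    · rintro _ ⟨⟨f, s⟩, hx, rfl⟩
      rw [SetLike.mem_coe, mem_datSub] at hx
      have hs : s = 1 := funext fun j => j.elim0
      subst hs
      show f ∈ (Subgroup.closure Gs).comap ((Bl (F := F) (k := k) (r := 0)).comp (MonoidHom.inl _ _))
      exact Subgroup.pi_mem_of_mulSingle_mem f fun i =>
        Subgroup.subset_closure (Or.inl ⟨i, f i, hx.1 i, rfl⟩)
    · rw [Subgroup.map_le_iff_le_comap]
      exact hT.trans ((Subgroup.closure_le _).2 fun w hw => Subgroup.subset_closure (Or.inr ⟨w, hw.1, hw.2, rfl⟩))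
    · rintro _ (⟨i, q, hq, rfl⟩ | ⟨w, hw, -, rfl⟩)
      · refine Subgroup.mem_sup_left ⟨_, mem_datSub.2 ⟨fun i' => ?_, fun j => j.elim0⟩, rfl⟩
        by_cases h : i' = i
        · subst h; simpa using hq
        · simp [Pi.mulSingle_eq_of_ne h]
      · exact Subgroup.mem_sup_right ⟨w, hw, rfl⟩
  rw [hcl]
  refine SqIn.of_closure _ ?_
  rintro _ (⟨i, q, hq, rfl⟩ | ⟨w, -, hw, rfl⟩)
  · exact single_commutator _ Q hQ i (fun q hq => Subgroup.subset_closure (Or.inl ⟨i, q, hq, rfl⟩)) q hq
  · rw [← map_pow, hw, map_one]; exact one_mem _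

/-- Exponent vectors. -/
abbrev Exp (k r : ℕ) : Type := Fin k ⊕ Fin r → Multiplicative ℤ

/-- The diagonal element with given exponents. -/
def psi (t : GL (Fin 2) F) (c : Fˣ) : Exp k r →* Dat F k r where
  toFun a := (fun i => t ^ (a (Sum.inl i)).toAdd, fun j => c ^ (a (Sum.inr j)).toAdd)
  map_one' := Prod.ext (funext fun i => zpow_zero t) (funext fun j => zpow_zero c)
  map_mul' a b := Prod.ext (funext fun i => zpow_add t _ _) (funext fun j => zpow_add c _ _)

theorem sqIn_det_one (hk : 0 < k) (M : Subgroup (GL (Fin 2) F)) (t : GL (Fin 2) F) (c : Fˣ) (htM : t ∈ M)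
    (htc : dt t = c) (hMc : ∀ a ∈ M, dt a ∈ Subgroup.zpowers c) (hQ : SqIn (M ⊓ (dt).ker))
    (T : Subgroup (Equiv.Perm (Fin k))) (hT : GenByExp 2 T)
    (hcase : (c ^ 2 = 1 ∧ t ^ 2 = 1) ∨ (r = 0 ∧ ∀ i j : Fin k, ∃ w ∈ T, w i = j)) :
    SqIn (mono (r := r) M (Subgroup.zpowers c) T ⊓
      (Matrix.GeneralLinearGroup.det : GL (Ix k r) F →* Fˣ).ker) := by
  classical
  set Q := M ⊓ (dt).ker with hQdef
  set N := (Matrix.GeneralLinearGroup.det : GL (Ix k r) F →* Fˣ).ker with hN
  set P := mono (r := r) M (Subgroup.zpowers c) T with hP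
  let i₀ : Fin k := ⟨0, hk⟩
  let chi : Exp k r →* Exp k r :=
    { toFun := fun a => a * (Pi.mulSingle (Sum.inl i₀) (∏ x, a x))⁻¹
      map_one' := by simp
      map_mul' := fun a b => by
        simp only [Pi.mul_apply, Finset.prod_mul_distrib, Pi.mulSingle_mul, mul_inv]
        exact mul_mul_mul_comm _ _ _ _ }
  let E : Exp k r →* GL (Ix k r) F := ((Bl (F := F) (k := k) (r := r)).comp (psi t c)).comp chi
  let g1 : Fin k ⊕ Fin r → GL (Ix k r) F := fun x => E (Pi.mulSingle x (Multiplicative.ofAdd (1 : ℤ)))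
  set Gs : Set (GL (Ix k r) F) :=
    {g | ∃ (i : Fin k) (q : _) (_ : q ∈ Q), g = Bl ((Pi.mulSingle i q, 1) : Dat F k r)} ∪ Set.range g1
      ∪ {g | ∃ w ∈ T, w ^ 2 = 1 ∧ g = Prm w} with hGs
  set H := Subgroup.closure Gs with hHdef
  have hQH : ∀ (i : Fin k), ∀ q ∈ Q, Bl ((Pi.mulSingle i q, 1) : Dat F k r) ∈ H :=
    fun i q hq => Subgroup.subset_closure (Or.inl (Or.inl ⟨i, q, hq, rfl⟩))
  have hTH : ∀ w ∈ T, Prm w ∈ H := fun w hw => (hT.trans ((Subgroup.closure_le (H.comap Prm)).2
    fun w hw => Subgroup.subset_closure (Or.inr ⟨w, hw.1, hw.2, rfl⟩))) hw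
  have hEH : ∀ a : Exp k r, E a ∈ H := by
    intro a
    show a ∈ H.comap E
    refine Subgroup.pi_mem_of_mulSingle_mem a fun x => ?_
    rw [show (Pi.mulSingle x (a x) : Exp k r) =
        (Pi.mulSingle x (Multiplicative.ofAdd (1 : ℤ))) ^ (a x).toAdd by
      rw [← Pi.mulSingle_zpow]; congr 1; rw [← ofAdd_zsmul]; simp]
    exact Subgroup.zpow_mem (H.comap E)
      (show g1 x ∈ H from Subgroup.subset_closure (Or.inl (Or.inr ⟨x, rfl⟩))) _
  have htp : ∀ n : ℤ, c ^ n = 1 → t ^ n ∈ Q := fun n hn =>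
    ⟨zpow_mem htM n, MonoidHom.mem_ker.2 (by rw [map_zpow, htc, hn])⟩
  -- `H` is everything
  have hle : P ⊓ N ≤ H := by
    rintro g ⟨hg, hdet⟩
    obtain ⟨x, hx, w, hw, rfl⟩ := mem_mono M _ T hg
    refine mul_mem ?_ (hTH w hw)
    rw [mem_datSub] at hx
    have h1 : ∀ i, ∃ n : ℤ, dt (x.1 i) = c ^ n := fun i => by
      obtain ⟨n, hn⟩ := Subgroup.mem_zpowers_iff.1 (hMc _ (hx.1 i)); exact ⟨n, hn.symm⟩
    have h2 : ∀ j, ∃ n : ℤ, x.2 j = c ^ n := fun j => by
      obtain ⟨n, hn⟩ := Subgroup.mem_zpowers_iff.1 (hx.2 j); exact ⟨n, hn.symm⟩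
    choose a ha using h1
    choose b hb using h2
    set v : Exp k r := Sum.elim (fun i => Multiplicative.ofAdd (a i)) (fun j => Multiplicative.ofAdd (b j))
      with hv
    have hxv : x = ((fun i => x.1 i * t ^ (-a i), 1) : Dat F k r) * psi t c v :=
      Prod.ext (funext fun i => by
        show x.1 i = x.1 i * t ^ (-a i) * t ^ a i
        rw [mul_assoc, ← zpow_add, neg_add_cancel, zpow_zero, mul_one])
        (funext fun j => by
        show x.2 j = 1 * c ^ b j
        rw [one_mul, hb])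
    rw [hxv, map_mul]
    refine mul_mem ?_ ?_
    · show (fun i => x.1 i * t ^ (-a i)) ∈ H.comap ((Bl (F := F) (k := k) (r := r)).comp (MonoidHom.inl _ _))
      refine Subgroup.pi_mem_of_mulSingle_mem _ fun i => hQH i _ ?_
      refine ⟨mul_mem (hx.1 i) (zpow_mem htM _), MonoidHom.mem_ker.2 ?_⟩
      rw [map_mul, map_zpow, htc, ha, ← zpow_add, add_neg_cancel, zpow_zero]
    · have hsum : c ^ (∏ y, v y).toAdd = 1 := by
        rw [toAdd_prod, zpow_eq_zpow_emod' (n := orderOf c) _ (pow_orderOf_eq_one c),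
          ← zpow_eq_zpow_emod' _ (pow_orderOf_eq_one c)]
        have hd : Matrix.GeneralLinearGroup.det (Bl x * Prm w) = 1 := hdet
        rw [map_mul, det_Prm, mul_one, det_Bl] at hd
        rw [Fintype.sum_sum_type, zpow_add]
        simp only [hv, Sum.elim_inl, Sum.elim_inr, toAdd_ofAdd]
        have hz : ∀ {n : ℕ} (f : Fin n → ℤ), c ^ (∑ i, f i) = ∏ i, c ^ f i := fun f => by
          induction (Finset.univ : Finset (Fin _)) using Finset.induction_on with
          | empty => simp
          | insert i s hi ih => rw [Finset.sum_insert hi, Finset.prod_insert hi, zpow_add, ih]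
        rw [hz, hz, ← Finset.prod_congr rfl fun i _ => ha i, ← Finset.prod_congr rfl fun j _ => hb j]
        exact hd
      have hsplit : psi t c v = psi t c (chi v) * psi t c (Pi.mulSingle (Sum.inl i₀) (∏ y, v y)) := by
        rw [← map_mul]
        congr 1
        exact (inv_mul_cancel_right _ _).symm
      rw [hsplit, map_mul]
      refine mul_mem (hEH v) ?_
      have : psi t c (Pi.mulSingle (Sum.inl i₀) (∏ y, v y)) =
          ((Pi.mulSingle i₀ (t ^ (∏ y, v y).toAdd), 1) : Dat F k r) := by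
        refine Prod.ext (funext fun i => ?_) (funext fun j => ?_)
        · by_cases h : i = i₀
          · subst h; simp [psi]
          · simp [psi, Pi.mulSingle_eq_of_ne h, Pi.mulSingle_eq_of_ne (fun e => h (Sum.inl_injective e) : (Sum.inl i : Fin k ⊕ Fin r) ≠ Sum.inl i₀)]
        · simp [psi]
      rw [this]
      exact hQH i₀ _ (htp _ hsum)
  have hge : H ≤ P ⊓ N := by
    rw [hHdef, Subgroup.closure_le]
    rintro _ ((⟨i, q, hq, rfl⟩ | ⟨x, rfl⟩) | ⟨w, hw, -, rfl⟩)
    · refine ⟨Subgroup.mem_sup_left ⟨_, mem_datSub.2 ⟨fun i' => ?_, fun j => one_mem _⟩, rfl⟩, MonoidHom.mem_ker.2 ?_⟩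
      · by_cases h : i' = i
        · subst h; simpa using hq.1
        · simp [Pi.mulSingle_eq_of_ne h]
      · rw [det_Bl, Finset.prod_eq_one, Finset.prod_eq_one, one_mul]
        · exact fun j _ => rfl
        · intro i' _
          by_cases h : i' = i
          · subst h; simpa using MonoidHom.mem_ker.1 hq.2
          · simp [Pi.mulSingle_eq_of_ne h]
    · refine ⟨Subgroup.mem_sup_left ⟨_, mem_datSub.2 ⟨fun i' => zpow_mem htM _,
        fun j => Subgroup.mem_zpowers_iff.2 ⟨_, rfl⟩⟩, rfl⟩, ?_⟩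
      set v : Exp k r := Pi.mulSingle x (Multiplicative.ofAdd (1 : ℤ))
      have hprod : ∀ u : Exp k r, Matrix.GeneralLinearGroup.det (Bl (psi t c u)) = c ^ (∏ y, u y).toAdd := by
        intro u
        rw [det_Bl, toAdd_prod, Fintype.sum_sum_type, zpow_add]
        have hz : ∀ {n : ℕ} (f : Fin n → ℤ), c ^ (∑ i, f i) = ∏ i, c ^ f i := fun f => by
          induction (Finset.univ : Finset (Fin _)) using Finset.induction_on with
          | empty => simp
          | insert i s hi ih => rw [Finset.sum_insert hi, Finset.prod_insert hi, zpow_add, ih]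
        rw [hz, hz]
        congr 1
        exact Finset.prod_congr rfl fun i _ => by
          show dt (t ^ _) = _
          rw [map_zpow, htc]
      show Matrix.GeneralLinearGroup.det (Bl (psi t c (chi v))) = 1
      rw [hprod]
      have : ∏ y, chi v y = 1 := by
        show ∏ y, (v * (Pi.mulSingle (Sum.inl i₀) (∏ x, v x))⁻¹ : Exp k r) y = 1
        simp only [Pi.mul_apply, Pi.inv_apply, Finset.prod_mul_distrib, Finset.prod_inv_distrib,
          Finset.univ.prod_pi_mulSingle', Finset.mem_univ, if_true, mul_inv_cancel]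
      rw [this, toAdd_one, zpow_zero]
    · exact ⟨Subgroup.mem_sup_right ⟨w, hw, rfl⟩, MonoidHom.mem_ker.2 (det_Prm w)⟩
  rw [le_antisymm hle hge, hHdef]
  refine SqIn.of_closure _ ?_
  rw [← hHdef]
  rintro _ ((⟨i, q, hq, rfl⟩ | ⟨x, rfl⟩) | ⟨w, -, hw, rfl⟩)
  · exact single_commutator _ Q hQ i (hQH i) q hq
  · rcases hcase with ⟨hc2, ht2⟩ | ⟨hr, htrans⟩
    · show E _ ^ 2 ∈ _
      rw [← map_pow]
      have : ∀ u : Exp k r, psi t c (u ^ 2) = 1 := fun u => Prod.ext
        (funext fun i => by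
          show t ^ _ = 1
          rw [Pi.pow_apply, toAdd_pow, nsmul_eq_mul, Nat.cast_ofNat, zpow_mul, zpow_two, ← _root_.sq, ht2,
            one_zpow])
        (funext fun j => by
          show c ^ _ = 1
          rw [Pi.pow_apply, toAdd_pow, nsmul_eq_mul, Nat.cast_ofNat, zpow_mul, zpow_two, ← _root_.sq, hc2,
            one_zpow])
      have h0 : E (Pi.mulSingle x (Multiplicative.ofAdd (1 : ℤ)) ^ 2) = 1 := by
        show Bl (psi t c (chi (_ ^ 2))) = 1
        rw [map_pow chi, this, map_one]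
      rw [h0]
      exact one_mem _
    · subst hr
      rcases x with i | j
      swap
      · exact j.elim0
      -- invariance under the involutions of `T`
      let e : Fin k → GL (Ix k 0) F := fun i => g1 (Sum.inl i)
      let R : Set (Fin k) := {i | e i ^ 2 ∈ ⁅H, H⁆}
      have h0 : i₀ ∈ R := by
        show e i₀ ^ 2 ∈ ⁅H, H⁆
        show E (Pi.mulSingle (Sum.inl i₀) (Multiplicative.ofAdd (1 : ℤ))) ^ 2 ∈ ⁅H, H⁆
        have : chi (Pi.mulSingle (Sum.inl i₀) (Multiplicative.ofAdd (1 : ℤ))) = 1 := by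
          show ((Pi.mulSingle (Sum.inl i₀) (Multiplicative.ofAdd (1 : ℤ)) : Exp k 0) *
            (Pi.mulSingle (Sum.inl i₀) (∏ x, (Pi.mulSingle (Sum.inl i₀) (Multiplicative.ofAdd (1 : ℤ)) :
              Exp k 0) x))⁻¹ : Exp k 0) = 1
          rw [Finset.univ.prod_pi_mulSingle']
          simp
        have hE : E (Pi.mulSingle (Sum.inl i₀) (Multiplicative.ofAdd (1 : ℤ))) = 1 := by
          show Bl (psi t c (chi _)) = 1
          rw [this, map_one, map_one]
        rw [hE, one_pow]
        exact one_mem _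
      have hstep : ∀ w ∈ {w | w ∈ T ∧ w ^ 2 = 1}, ∀ i ∈ R, w i ∈ R := by
        rintro w ⟨hwT, hw2⟩ i hi
        by_cases hwi : w i = i
        · rwa [hwi]
        let D : Exp k 0 := Pi.mulSingle (Sum.inl (w i)) (Multiplicative.ofAdd (1 : ℤ)) *
          (Pi.mulSingle (Sum.inl i) (Multiplicative.ofAdd (1 : ℤ)))⁻¹
        have hD : chi D = D := by
          have : ∏ y, D y = 1 := by
            simp only [D, Pi.mul_apply, Pi.inv_apply, Finset.prod_mul_distrib, Finset.prod_inv_distrib,
              Finset.univ.prod_pi_mulSingle', Finset.mem_univ, if_true, mul_inv_cancel]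
          show D * (Pi.mulSingle (Sum.inl i₀) (∏ x, D x))⁻¹ = D
          rw [this, Pi.mulSingle_one, inv_one, mul_one]
        have hwinv : ∀ y, w⁻¹ y = w y := fun y => by
          rw [inv_eq_of_mul_eq_one_left ((_root_.sq w).symm.trans hw2)]
        have hww : ∀ y, w (w y) = y := fun y => by
          rw [← hwinv (w y)]; simp
        have hDw : (fun y : Fin k ⊕ Fin 0 => D (Sum.map w id y)) = D⁻¹ := by
          funext y
          rcases y with y | y
          swap
          · exact y.elim0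
          have hyy : ∀ z, (w y = w z) ↔ (y = z) := fun z => w.injective.eq_iff
          simp only [D, Sum.map_inl, Pi.mul_apply, Pi.inv_apply, mul_inv_rev, inv_inv, Pi.mulSingle_apply,
            Sum.inl.injEq, hyy]
          have : (w y = i) ↔ (y = w i) := ⟨fun h => by rw [← h, hww], fun h => by rw [h, hww]⟩
          simp only [this]
        have hcomm : ⁅(Prm (F := F) (r := 0) w), E D⁆ = (E D ^ 2)⁻¹ := by
          have hED : E D = Bl (psi t c D) := by show Bl (psi t c (chi D)) = _; rw [hD]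
          rw [commutatorElement_def, hED, Bl_conj,
            show ((psi t c D).1 ∘ ⇑w⁻¹, (psi t c D).2) = psi t c D⁻¹ by
              rw [← hDw]
              refine Prod.ext (funext fun y => ?_) (funext fun j => j.elim0)
              show t ^ _ = t ^ _
              rw [hwinv]; rfl,
            ← map_inv, ← map_pow, ← map_inv, ← map_mul, ← map_pow, ← map_inv, ← map_mul]
          congr 1
          simp only [D, _root_.sq, mul_inv_rev, inv_inv, map_mul, map_inv]
        have hmem : E D ^ 2 ∈ ⁅H, H⁆ := by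
          have := inv_mem (Subgroup.commutator_mem_commutator (hTH w hwT) (hEH D))
          rwa [hcomm, inv_inv] at this
        have he : e (w i) ^ 2 = E D ^ 2 * e i ^ 2 := by
          show E _ ^ 2 = E D ^ 2 * E _ ^ 2
          rw [← map_pow, ← map_pow, ← map_pow, ← map_mul, ← mul_pow]
          congr 2
          exact (inv_mul_cancel_right _ _).symm
        show e (w i) ^ 2 ∈ ⁅H, H⁆
        rw [he]
        exact mul_mem hmem hi
      have hinv : ∀ w ∈ T, ∀ i ∈ R, w i ∈ R := by
        intro w hw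
        have hw' := hT hw
        induction hw' using Subgroup.closure_induction'' with
        | one => exact fun i hi => hi
        | mem g hg => exact hstep g hg
        | inv_mem g hg =>
          intro i hi
          rw [inv_eq_of_mul_eq_one_left ((_root_.sq g).symm.trans hg.2)]
          exact hstep g hg i hi
        | mul g h hg hh ihg ihh =>
          exact fun i hi => ihg ((Subgroup.closure_le T).2 (fun y hy => hy.1) hg) _
            (ihh ((Subgroup.closure_le T).2 (fun y hy => hy.1) hh) i hi)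
      obtain ⟨w, hw, rfl⟩ := htrans i₀ i
      exact hinv w hw i₀ h0
  · rw [← map_pow, hw, map_one]; exact one_mem _

end CfsgLib.LinearSylowTwo
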