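import Mathlib

/-!
# Subgroups in which every square is a commutator product
-/

namespace CfsgLib.LinearSylowTwo

open scoped Pointwise

set_option autoImplicit false

variable {G : Type*} [Group G] {K : Type*} [Group K]

/-- Every square of an element of `H` lies in the derived subgroup of `H`. -/
def SqIn (H : Subgroup G) : Prop := ∀ x ∈ H, x ^ 2 ∈ ⁅H, H⁆

theorem SqIn.map {H : Subgroup G} (h : SqIn H) (f : G →* K) : SqIn (H.map f) := by
  rintro _ ⟨x, hx, rfl⟩
  rw [← Subgroup.map_commutator, ← map_pow]
  exact ⟨_, h x hx, rfl⟩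

theorem SqIn.of_map {H : Subgroup G} {f : G →* K} (hf : Function.Injective f) (h : SqIn (H.map f)) :
    SqIn H := by
  intro x hx
  have := h (f x) ⟨x, hx, rfl⟩
  rw [← Subgroup.map_commutator, ← map_pow] at this
  obtain ⟨y, hy, e⟩ := this
  rwa [← hf e]

theorem SqIn.sq_mem {H : Subgroup G} (h : SqIn H) (x : H) : x ^ 2 ∈ commutator H := by
  have := h x.1 x.2
  rw [← Subgroup.map_subtype_commutator] at this
  obtain ⟨y, hy, e⟩ := this
  rwa [← show y = x ^ 2 from Subtype.ext e]

/-- It is enough that the squares of generators lie in the derived subgroup. -/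
theorem SqIn.of_closure (X : Set G)
    (h : ∀ x ∈ X, x ^ 2 ∈ ⁅Subgroup.closure X, Subgroup.closure X⁆) : SqIn (Subgroup.closure X) := by
  set H := Subgroup.closure X with hH
  let φ : H →* Abelianization H := (powMonoidHom 2).comp Abelianization.of
  have key : ∀ y : H, φ y = 1 ↔ (y : G) ^ 2 ∈ ⁅H, H⁆ := fun y => by
    show Abelianization.of y ^ 2 = 1 ↔ _
    rw [← map_pow, show Abelianization.of (y ^ 2) = 1 ↔ y ^ 2 ∈ commutator H from QuotientGroup.eq_one_iff _,
      ← Subgroup.map_subtype_commutator]
    refine ⟨fun hy => ⟨_, hy, rfl⟩, ?_⟩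
    rintro ⟨z, hz, e⟩
    rwa [← show z = y ^ 2 from Subtype.ext e]
  intro x hx
  have hle : H ≤ φ.ker.map H.subtype := by
    refine (Subgroup.closure_le _).2 ?_
    intro y hy
    exact ⟨⟨y, Subgroup.subset_closure hy⟩, (key _).2 (h y hy), rfl⟩
  obtain ⟨z, hz, rfl⟩ := hle hx
  exact (key z).1 hz

/-- A subgroup of two-power order containing the largest possible power of two is a Sylow subgroup,
so one such subgroup decides for all Sylow subgroups. -/
theorem sqIn_sylow [Finite G] {H : Subgroup G} (h : SqIn H)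
    (hc : Nat.card H = 2 ^ (Nat.card G).factorization 2) (P : Sylow 2 G) : SqIn (P : Subgroup G) := by
  haveI : Fact (Nat.Prime 2) := ⟨Nat.prime_two⟩
  let S : Sylow 2 G := Sylow.ofCard H hc
  obtain ⟨g, hg⟩ := MulAction.exists_smul_eq G S P
  rw [← hg]
  exact h.map (MulAut.conj g).toMonoidHom

/-- The trace of a Sylow subgroup on a normal subgroup is a Sylow subgroup of it. -/
theorem card_inf_normal [Finite G] (N : Subgroup G) [N.Normal] (S : Sylow 2 G) :
    Nat.card ↥((S : Subgroup G) ⊓ N) = 2 ^ (Nat.card N).factorization 2 := by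
  haveI : Fact (Nat.Prime 2) := ⟨Nat.prime_two⟩
  obtain ⟨P, hP⟩ : ∃ P : Sylow 2 N, (P : Subgroup N).map N.subtype = (S : Subgroup G) ⊓ N := by
    let P₀ : Sylow 2 N := default
    obtain ⟨T, hT⟩ := Sylow.exists_comap_subtype_eq P₀
    obtain ⟨g, hg⟩ := MulAction.exists_smul_eq G T S
    have hP₀ : (P₀ : Subgroup N).map N.subtype = (T : Subgroup G) ⊓ N := by
      rw [← hT, ← Subgroup.subgroupOf, Subgroup.subgroupOf_map_subtype]
    have eN : N.map (MulAut.conj g).toMonoidHom = N :=
      le_antisymm (by rintro _ ⟨x, hx, rfl⟩; exact (inferInstance : N.Normal).conj_mem x hx g)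
        fun x hx => ⟨g⁻¹ * x * g, by simpa using (inferInstance : N.Normal).conj_mem x hx g⁻¹,
          by simp [mul_assoc]⟩
    have hc : Nat.card ((S : Subgroup G).subgroupOf N) = 2 ^ (Nat.card N).factorization 2 := by
      have hle : Nat.card ((S : Subgroup G).subgroupOf N) =
          Nat.card ↥((T : Subgroup G) ⊓ N) := by
        rw [← Subgroup.card_map_of_injective (Subgroup.subtype_injective N),
          Subgroup.subgroupOf_map_subtype, ← Subgroup.card_map_of_injective
          (f := (MulAut.conj g).toMonoidHom) (K := (T : Subgroup G) ⊓ N) (MulAut.conj g).injective,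
          Subgroup.map_inf _ _ _ (MulAut.conj g).injective, eN, ← hg]
        rfl
      rw [hle, ← hP₀, Subgroup.card_map_of_injective (Subgroup.subtype_injective N)]
      exact P₀.card_eq_multiplicity
    exact ⟨Sylow.ofCard _ hc, Subgroup.subgroupOf_map_subtype _ _⟩
  rw [← hP, Subgroup.card_map_of_injective (Subgroup.subtype_injective N)]
  exact P.card_eq_multiplicity

end CfsgLib.LinearSylowTwo
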