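import Cfsg.Agent.Lib.OmegaSylowTwo.Arith
import Cfsg.Agent.Lib.LinearSylowTwo.Sq
import Cfsg.Agent.Lib.SLCard

/-!
# The Sylow `2`-subgroups of `GL₂` and `SL₂` in odd characteristic
-/

namespace CfsgLib.LinearSylowTwo

open Matrix CfsgLib.OmegaSylowTwo

set_option autoImplicit false
set_option linter.style.haveILetI false

variable {F : Type*} [Field F] [Fintype F] [DecidableEq F]

local notation "GL2" => GL (Fin 2) F
local notation "dt" => (Matrix.GeneralLinearGroup.det : GL (Fin 2) F →* Fˣ)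

theorem v2_GL2 (h2 : (2 : F) ≠ 0) :
    (Nat.card GL2).factorization 2 =
        (Fintype.card F - 1).factorization 2 + ((Nat.card (Circ F)).factorization 2 + 1) ∧
      (Nat.card (dt).ker).factorization 2 = (Nat.card (Circ F)).factorization 2 + 1 := by
  have hq1 : 1 < Fintype.card F := Fintype.one_lt_card
  have hG : Nat.card GL2 = Fintype.card F * (Fintype.card F - 1) * (Fintype.card F ^ 2 - 1) := by
    rw [Matrix.card_GL_field, Fin.prod_univ_two]
    simp only [Fin.val_zero, Fin.val_one, pow_zero, pow_one]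
    zify [Nat.one_le_pow 2 (Fintype.card F) (by omega), Nat.le_self_pow (two_ne_zero) (Fintype.card F),
      hq1.le]
    ring
  have hne : Fintype.card F ^ 2 - 1 ≠ 0 := by
    have := Nat.one_lt_pow (n := 2) (by omega) hq1
    omega
  have hq := card_odd_iff h2
  have hv : (Fintype.card F ^ 2 - 1).factorization 2 = (Nat.card (Circ F)).factorization 2 + 1 := by
    have := v2_sq_pow_sub_one h2 1 one_ne_zero
    simpa using this
  have hq0 : (Fintype.card F).factorization 2 = 0 := Nat.factorization_eq_zero_of_not_dvd (by omega)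
  have hK : (Fintype.card F - 1) * Nat.card (dt).ker = Nat.card GL2 := by
    rw [← CfsgLib.SLCard.card_units_mul_card_SL (n := 2) (by norm_num), ← CfsgLib.SLCard.range_toGL,
      Nat.card_congr (MonoidHom.ofInjective CfsgLib.SLCard.toGL_injective).toEquiv]
  have h1 : (Nat.card GL2).factorization 2 =
      (Fintype.card F - 1).factorization 2 + ((Nat.card (Circ F)).factorization 2 + 1) := by
    rw [hG, Nat.factorization_mul (Nat.mul_ne_zero (by omega) (by omega)) hne,
      Nat.factorization_mul (by omega) (by omega), Finsupp.add_apply, Finsupp.add_apply, hq0, hv, zero_add]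
  refine ⟨h1, ?_⟩
  rw [← hK, Nat.factorization_mul (by omega) Nat.card_pos.ne', Finsupp.add_apply] at h1
  omega

/-- The rotations. -/
def rot : Subgroup GL2 where
  carrier := {g | ∃ x y : F, x * x + y * y = 1 ∧ g.1 = !![x, -y; y, x]}
  one_mem' := ⟨1, 0, by simp, by simp [Matrix.one_fin_two]⟩
  mul_mem' := by
    rintro a b ⟨x, y, h, ha⟩ ⟨u, v, h', hb⟩
    refine ⟨x * u - y * v, x * v + y * u, by linear_combination (u * u + v * v) * h + h', ?_⟩
    rw [Matrix.GeneralLinearGroup.coe_mul, ha, hb, Matrix.mul_fin_two]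
    ext i j; fin_cases i <;> fin_cases j <;> simp <;> ring
  inv_mem' := by
    rintro a ⟨x, y, h, ha⟩
    refine ⟨x, -y, by linear_combination h, ?_⟩
    rw [Matrix.coe_units_inv]
    refine Matrix.inv_eq_right_inv ?_
    rw [ha, Matrix.mul_fin_two, Matrix.one_fin_two]
    ext i j; fin_cases i <;> fin_cases j <;> simp <;> first | linear_combination h | ring

omit [Fintype F] in
theorem commute_rot {a b : GL2} (ha : a ∈ rot) (hb : b ∈ rot) : a * b = b * a := by
  obtain ⟨x, y, -, ha⟩ := ha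
  obtain ⟨u, v, -, hb⟩ := hb
  apply Units.ext
  rw [Units.val_mul, Units.val_mul, ha, hb, Matrix.mul_fin_two, Matrix.mul_fin_two]
  ext i j; fin_cases i <;> fin_cases j <;> simp <;> ring

omit [Fintype F] in
theorem rot_le_ker : (rot : Subgroup GL2) ≤ (dt).ker := by
  rintro a ⟨x, y, h, ha⟩
  refine Units.ext ?_
  show (a : Matrix (Fin 2) (Fin 2) F).det = 1
  rw [ha, Matrix.det_fin_two_of]
  linear_combination h

theorem card_rot : Nat.card (rot : Subgroup GL2) = Nat.card (Circ F) := by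
  refine (Nat.card_congr ?_).symm
  refine Equiv.ofBijective (fun c => ⟨Matrix.GeneralLinearGroup.mkOfDetNeZero
    !![c.1.1, -c.1.2; c.1.2, c.1.1] (by
      rw [Matrix.det_fin_two_of, show c.1.1 * c.1.1 - -c.1.2 * c.1.2 = 1 by linear_combination c.2]
      exact one_ne_zero), c.1.1, c.1.2, c.2, rfl⟩) ⟨fun c c' e => ?_, ?_⟩
  · have e' : !![c.1.1, -c.1.2; c.1.2, c.1.1] = !![c'.1.1, -c'.1.2; c'.1.2, c'.1.1] :=
      congrArg (fun g : (rot : Subgroup GL2) => (g.1 : Matrix (Fin 2) (Fin 2) F)) e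
    exact Subtype.ext (Prod.ext (congrFun (congrFun e' 0) 0) (congrFun (congrFun e' 1) 0))
  · rintro ⟨g, x, y, h, hg⟩
    exact ⟨⟨(x, y), h⟩, Subtype.ext (Units.ext hg.symm)⟩

/-- A Sylow `2`-subgroup of `SL₂` inside `GL₂` with squares in its derived subgroup. -/
theorem exists_sqIn_ker (h2 : (2 : F) ≠ 0) :
    ∃ Q : Subgroup GL2, Q ≤ (dt).ker ∧ SqIn Q ∧
      Nat.card Q = 2 ^ ((Nat.card (Circ F)).factorization 2 + 1) := by
  haveI : Fact (Nat.Prime 2) := ⟨Nat.prime_two⟩
  obtain ⟨a, b, hab⟩ := CfsgLib.FiniteForms.exists_rep_one h2 (a := (-1 : F)) (b := -1)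
    (neg_ne_zero.2 one_ne_zero) (neg_ne_zero.2 one_ne_zero)
  let J : GL2 := Matrix.GeneralLinearGroup.mkOfDetNeZero !![a, b; b, -a] (by
    rw [Matrix.det_fin_two_of, show a * -a - b * b = 1 by linear_combination hab]; exact one_ne_zero)
  have hJv : J.1 = !![a, b; b, -a] := rfl
  let I : GL2 := Matrix.GeneralLinearGroup.mkOfDetNeZero !![0, -1; 1, 0] (by simp [Matrix.det_fin_two_of])
  have hIr : I ∈ rot := ⟨0, 1, by simp, rfl⟩
  have hJI : J * J = I * I := Units.ext (by
    show !![a, b; b, -a] * !![a, b; b, -a] = !![(0 : F), -1; 1, 0] * !![0, -1; 1, 0]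
    rw [Matrix.mul_fin_two, Matrix.mul_fin_two]
    ext i j; fin_cases i <;> fin_cases j <;> simp <;> first | linear_combination -hab | linear_combination hab | ring)
  have hI4 : I ^ 4 = 1 := Units.ext (by
    show (!![(0 : F), -1; 1, 0]) ^ 4 = 1
    simp [pow_succ, Matrix.one_fin_two])
  have hconj : ∀ r ∈ (rot : Subgroup GL2), J * r * J⁻¹ = r⁻¹ := by
    intro r hr
    rw [mul_inv_eq_iff_eq_mul, eq_inv_mul_iff_mul_eq]
    obtain ⟨x, y, h, hr⟩ := hr
    apply Units.ext
    rw [Units.val_mul, Units.val_mul, hJv, hr, Matrix.mul_fin_two, Matrix.mul_fin_two]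
    ext i j
    fin_cases i <;> fin_cases j <;> simp
    · linear_combination a * h
    · linear_combination b * h
    · linear_combination b * h
    · linear_combination (-a) * h
  have hIp : IsPGroup 2 (Subgroup.zpowers (⟨I, hIr⟩ : (rot : Subgroup GL2))) := by
    rintro ⟨z, hz⟩
    obtain ⟨n, rfl⟩ := Subgroup.mem_zpowers_iff.1 hz
    refine ⟨2, Subtype.ext ?_⟩
    show ((⟨I, hIr⟩ : (rot : Subgroup GL2)) ^ n) ^ (2 ^ 2) = 1
    rw [← _root_.zpow_natCast, ← _root_.zpow_mul, mul_comm n, _root_.zpow_mul, _root_.zpow_natCast,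
      show (⟨I, hIr⟩ : (rot : Subgroup GL2)) ^ (2 ^ 2) = 1 from Subtype.ext hI4, _root_.one_zpow]
  obtain ⟨S, hS⟩ := hIp.exists_le_sylow
  set R2 := (S : Subgroup (rot : Subgroup GL2)).map (Subgroup.subtype _) with hR2
  have hR2r : R2 ≤ rot := Subgroup.map_subtype_le _
  have hIR2 : I ∈ R2 := ⟨⟨I, hIr⟩, hS (Subgroup.mem_zpowers _), rfl⟩
  have hR2c : Nat.card R2 = 2 ^ (Nat.card (Circ F)).factorization 2 := by
    rw [hR2, Subgroup.card_map_of_injective (Subgroup.subtype_injective _), S.card_eq_multiplicity,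
      card_rot]
  set Q := Subgroup.closure ((R2 : Set GL2) ∪ {J}) with hQdef
  have hJQ : J ∈ Q := Subgroup.subset_closure (Or.inr rfl)
  have hRQ : R2 ≤ Q := fun r hr => Subgroup.subset_closure (Or.inl hr)
  have hsq : ∀ r ∈ R2, r ^ 2 ∈ ⁅Q, Q⁆ := fun r hr => by
    have := inv_mem (Subgroup.commutator_mem_commutator hJQ (hRQ hr))
    rwa [commutatorElement_def, hconj r (hR2r hr), ← _root_.mul_inv_rev, inv_inv, ← _root_.sq] at this
  have hJker : J ∈ (dt).ker := Units.ext (by
    show (!![a, b; b, -a]).det = (1 : F)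
    rw [Matrix.det_fin_two_of]
    linear_combination hab)
  have hQker : Q ≤ (dt).ker := by
    rw [hQdef, Subgroup.closure_le]
    rintro x (hx | rfl)
    · exact rot_le_ker (hR2r hx)
    · exact hJker
  refine ⟨Q, hQker, SqIn.of_closure _ ?_, ?_⟩
  · rintro x (hx | rfl)
    · exact hsq x hx
    · rw [_root_.sq, hJI, ← _root_.sq]
      exact hsq I hIR2
  · have hJp : IsPGroup 2 (Subgroup.zpowers J) := by
      rintro ⟨z, hz⟩
      obtain ⟨n, rfl⟩ := Subgroup.mem_zpowers_iff.1 hz
      refine ⟨2, Subtype.ext ?_⟩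
      show (J ^ n) ^ (2 ^ 2) = 1
      rw [← _root_.zpow_natCast, ← _root_.zpow_mul, mul_comm n, _root_.zpow_mul, _root_.zpow_natCast,
        show J ^ (2 ^ 2) = (J * J) * (J * J) by simp [pow_succ, mul_assoc], hJI,
        show (I * I) * (I * I) = I ^ 4 by simp [pow_succ, mul_assoc], hI4,
        _root_.one_zpow]
    have hnorm : Subgroup.zpowers J ≤ Subgroup.normalizer (R2 : Set GL2) := by
      rw [Subgroup.zpowers_le, Subgroup.mem_normalizer_iff]
      intro x
      constructor
      · intro hx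
        rw [hconj x (hR2r hx)]
        exact inv_mem hx
      · intro hx
        have h1 := hconj _ (hR2r hx)
        rw [show J * (J * x * J⁻¹) * J⁻¹ = (J * J) * x * (J * J)⁻¹ by group, hJI] at h1
        have hm : (I * I) * x * (I * I)⁻¹ ∈ R2 := by
          rw [h1]; exact inv_mem hx
        have h3 := mul_mem (mul_mem (inv_mem (mul_mem hIR2 hIR2)) hm) (mul_mem hIR2 hIR2)
        rwa [show (I * I)⁻¹ * ((I * I) * x * (I * I)⁻¹) * (I * I) = x by group] at h3
    have hQp : IsPGroup 2 Q := (IsPGroup.to_sup_of_normal_left' (S.isPGroup'.map _) hJp hnorm).to_le (by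
      rw [hQdef, Subgroup.closure_le]
      rintro x (hx | rfl)
      · exact Subgroup.mem_sup_left hx
      · exact Subgroup.mem_sup_right (Subgroup.mem_zpowers _))
    obtain ⟨n, hn⟩ := IsPGroup.iff_card.1 hQp
    have hup : n ≤ (Nat.card (Circ F)).factorization 2 + 1 := by
      have h := (Nat.factorization_le_iff_dvd Nat.card_pos.ne' Nat.card_pos.ne').2
        (Subgroup.card_dvd_of_le hQker) 2
      rwa [hn, (v2_GL2 h2).2, Nat.factorization_pow, Finsupp.smul_apply,
        Nat.Prime.factorization_self Nat.prime_two, smul_eq_mul, mul_one] at h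
    have hJn : J ∉ R2 := fun h => by
      obtain ⟨x, y, -, e⟩ := hR2r h
      rw [hJv] at e
      have e0 : a = x := congrFun (congrFun e 0) 0
      have e1 : -a = x := congrFun (congrFun e 1) 1
      have e2 : b = -y := congrFun (congrFun e 0) 1
      have e3 : b = y := congrFun (congrFun e 1) 0
      have ha : a = 0 := (mul_eq_zero.1 (show (2 : F) * a = 0 by linear_combination e0 - e1)).resolve_left h2
      have hb : b = 0 := (mul_eq_zero.1 (show (2 : F) * b = 0 by linear_combination e2 + e3)).resolve_left h2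
      rw [ha, hb] at hab
      simp at hab
    have hlow : (Nat.card (Circ F)).factorization 2 < n := by
      by_contra hle
      refine hJn ((Subgroup.eq_of_le_of_card_ge hRQ ?_) ▸ hJQ)
      rw [hR2c, hn]
      exact Nat.pow_le_pow_right (by norm_num) (by omega)
    rw [hn, show n = (Nat.card (Circ F)).factorization 2 + 1 by omega]

/-- A suitable Sylow `2`-subgroup of `GL₂`. -/
theorem exists_sylow (h2 : (2 : F) ≠ 0) : ∃ (c : Fˣ) (M : Subgroup GL2) (t : GL2),
    orderOf c = 2 ^ (Fintype.card F - 1).factorization 2 ∧ IsPGroup 2 M ∧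
    Nat.card M = 2 ^ ((Fintype.card F - 1).factorization 2 + ((Nat.card (Circ F)).factorization 2 + 1)) ∧
    t ∈ M ∧ dt t = c ∧ (∀ a ∈ M, dt a ∈ Subgroup.zpowers c) ∧ SqIn (M ⊓ (dt).ker) ∧
    (c ^ 2 = 1 → t ^ 2 = 1) := by
  haveI : Fact (Nat.Prime 2) := ⟨Nat.prime_two⟩
  let U : Sylow 2 Fˣ := default
  haveI : IsCyclic (U : Subgroup Fˣ) := inferInstance
  obtain ⟨⟨c, hcU⟩, hc⟩ := IsCyclic.exists_generator (α := (U : Subgroup Fˣ))
  have hU : (U : Subgroup Fˣ) = Subgroup.zpowers c := by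
    refine le_antisymm (fun x hx => ?_) (Subgroup.zpowers_le.2 hcU)
    obtain ⟨n, hn⟩ := Subgroup.mem_zpowers_iff.1 (hc ⟨x, hx⟩)
    exact Subgroup.mem_zpowers_iff.2 ⟨n, congrArg Subtype.val hn⟩
  have hco : orderOf c = 2 ^ (Fintype.card F - 1).factorization 2 := by
    rw [← Nat.card_zpowers, ← hU, U.card_eq_multiplicity, Nat.card_units, Nat.card_eq_fintype_card]
  let t : GL2 := Matrix.GeneralLinearGroup.mkOfDetNeZero !![(c : F), 0; 0, 1] (by
    simp [Matrix.det_fin_two_of])
  have htd : dt t = c := Units.ext (by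
    show (!![(c : F), 0; 0, 1]).det = c
    simp [Matrix.det_fin_two_of])
  have htp : t ^ orderOf c = 1 := by
    apply Units.ext
    rw [Units.val_pow_eq_pow_val]
    show (!![(c : F), 0; 0, 1]) ^ orderOf c = 1
    have : ∀ n : ℕ, (!![(c : F), 0; 0, 1]) ^ n = !![(c : F) ^ n, 0; 0, 1] := fun n => by
      induction n with
      | zero => simp [Matrix.one_fin_two]
      | succ n ih => rw [pow_succ, ih, Matrix.mul_fin_two, pow_succ]; simp
    rw [this, ← Units.val_pow_eq_pow_val, pow_orderOf_eq_one, Units.val_one, Matrix.one_fin_two]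
  have htP : IsPGroup 2 (Subgroup.zpowers t) := by
    rintro ⟨z, hz⟩
    obtain ⟨n, rfl⟩ := Subgroup.mem_zpowers_iff.1 hz
    refine ⟨(Fintype.card F - 1).factorization 2, Subtype.ext ?_⟩
    show (t ^ n) ^ (2 ^ _) = 1
    rw [← hco, ← _root_.zpow_natCast, ← _root_.zpow_mul, mul_comm n, _root_.zpow_mul, _root_.zpow_natCast, htp, _root_.one_zpow]
  obtain ⟨S, hS⟩ := htP.exists_le_sylow
  obtain ⟨Q, hQk, hQs, hQc⟩ := exists_sqIn_ker h2
  have hQp : IsPGroup 2 Q := IsPGroup.of_card hQc
  obtain ⟨S₁, hS₁⟩ := hQp.exists_le_sylow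
  have hQeq : Q = (S₁ : Subgroup GL2) ⊓ (dt).ker := Subgroup.eq_of_le_of_card_ge (le_inf hS₁ hQk)
    (by rw [card_inf_normal, (v2_GL2 h2).2, hQc])
  obtain ⟨g, hg⟩ := MulAction.exists_smul_eq GL2 S₁ S
  refine ⟨c, S, t, hco, S.isPGroup', ?_, hS (Subgroup.mem_zpowers _), htd, fun a ha => ?_, ?_, fun h => ?_⟩
  · rw [S.card_eq_multiplicity, (v2_GL2 h2).1]
  · have hle : (S : Subgroup GL2).map dt ≤ (U : Subgroup Fˣ) := by
      have hp := (S.isPGroup'.map dt)
      exact (U.is_maximal' (hp.to_sup_of_normal_left U.isPGroup') le_sup_right).le.trans' le_sup_left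
    rw [← hU]
    exact hle ⟨a, ha, rfl⟩
  · have e : (S : Subgroup GL2) ⊓ (dt).ker = Q.map (MulAut.conj g).toMonoidHom := by
      rw [hQeq, Subgroup.map_inf _ _ _ (MulAut.conj g).injective, ← hg]
      congr 1
      refine le_antisymm (fun x hx => ⟨g⁻¹ * x * g,
        by simpa using (MonoidHom.normal_ker dt).conj_mem x hx g⁻¹, by simp [mul_assoc]⟩) ?_
      rintro _ ⟨x, hx, rfl⟩
      exact (MonoidHom.normal_ker dt).conj_mem x hx g
    rw [e]
    exact hQs.map _
  · apply Units.ext
    rw [Units.val_pow_eq_pow_val]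
    show (!![(c : F), 0; 0, 1]) ^ 2 = 1
    have hc2 : (c : F) * c = 1 := by
      have := congrArg Units.val h
      simpa [_root_.sq] using this
    rw [_root_.sq, Matrix.mul_fin_two, Matrix.one_fin_two]
    simp [hc2]

end CfsgLib.LinearSylowTwo
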